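import Mathlib

/-!
# Koszul operator of the Euler derivations in characteristic `p`
-/

set_option autoImplicit false
universe u v

open MvPolynomial

namespace LogCartierLib

variable {σ : Type v} [LinearOrder σ] [Fintype σ] {R : Type u} [CommRing R]

/-- The sign of the position of `i` in `s`. -/
def sgn (R : Type u) [CommRing R] (i : σ) (s : Finset σ) : R := (-1) ^ (s.filter (· < i)).card

omit [Fintype σ] in
theorem sgn_mul_self (i : σ) (s : Finset σ) : sgn R i s * sgn R i s = 1 := by
  rw [sgn, ← pow_add, Even.neg_one_pow ⟨_, rfl⟩]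

omit [Fintype σ] in
theorem sgn_swap {i j : σ} {s : Finset σ} (hi : i ∈ s) (hj : j ∉ s) :
    sgn R i s * sgn R j ((insert j s).erase i) = -(sgn R i (insert j s) * sgn R j (insert j s)) := by
  have hij : i ≠ j := fun h => hj (h ▸ hi)
  have hA : ((insert j s).filter (· < i)).card = (s.filter (· < i)).card + if j < i then 1 else 0 := by
    rw [Finset.filter_insert]
    split_ifs with h
    · rw [Finset.card_insert_of_notMem (fun h' => hj (Finset.mem_filter.1 h').1)]
    · rw [add_zero]
  have hB : ((insert j s).filter (· < j)).card = (((insert j s).erase i).filter (· < j)).card + if i < j then 1 else 0 := by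
    rw [Finset.filter_erase]
    split_ifs with h
    · rw [Finset.card_erase_add_one (Finset.mem_filter.2 ⟨Finset.mem_insert_of_mem hi, h⟩)]
    · rw [add_zero, Finset.erase_eq_of_notMem (a := i) (s := (insert j s).filter (· < j)) (fun h' => h (Finset.mem_filter.1 h').2)]
  simp only [sgn, hA, hB, pow_add]
  rcases lt_or_gt_of_ne hij with h | h
  · simp [h, h.not_gt]
  · simp [h, h.not_gt]

/-- The Koszul operator of the derivations `Xᵢ ∂ᵢ`. -/
noncomputable def kos (G : Finset σ → MvPolynomial σ R) (s : Finset σ) : MvPolynomial σ R :=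
  ∑ i ∈ s, C (sgn R i s) * (X i * pderiv i (G (s.erase i)))

omit [LinearOrder σ] [Fintype σ] in
theorem coeff_theta (i : σ) (f : MvPolynomial σ R) (α : σ →₀ ℕ) :
    coeff α (X i * pderiv i f) = (α i : R) * coeff α f := by
  classical
  rw [coeff_X_mul']
  by_cases h : i ∈ α.support
  · have h1 : 1 ≤ α i := Nat.one_le_iff_ne_zero.2 (Finsupp.mem_support_iff.1 h)
    rw [if_pos h, coeff_pderiv, tsub_add_cancel_of_le (Finsupp.single_le_iff.2 h1), Finsupp.tsub_apply,
      Finsupp.single_eq_same, ← Nat.cast_add_one, Nat.sub_add_cancel h1, mul_comm]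
  · rw [if_neg h, Finsupp.notMem_support_iff.1 h, Nat.cast_zero, zero_mul]

omit [Fintype σ] in
theorem coeff_kos (G : Finset σ → MvPolynomial σ R) (s : Finset σ) (α : σ →₀ ℕ) :
    coeff α (kos G s) = ∑ i ∈ s, sgn R i s * ((α i : R) * coeff α (G (s.erase i))) := by
  rw [kos, coeff_sum]
  exact Finset.sum_congr rfl fun i _ => by rw [coeff_C_mul, coeff_theta]

variable (p : ℕ) [CharP R p]

omit [Fintype σ] in
theorem coeff_kos_eq_zero (G : Finset σ → MvPolynomial σ R) (s : Finset σ) {α : σ →₀ ℕ} (h : ∀ i, p ∣ α i) :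
    coeff α (kos G s) = 0 := by
  rw [coeff_kos]
  refine Finset.sum_eq_zero fun i _ => ?_
  rw [(CharP.cast_eq_zero_iff R p (α i)).2 (h i), zero_mul, mul_zero]

variable [hp : Fact p.Prime]

/-- Closed families are exact outside exponents divisible by `p`. -/
theorem exists_homotopy (G : Finset σ → MvPolynomial σ R) (a : ℕ)
    (hG : ∀ s : Finset σ, s.card = a + 1 → kos G s = 0) :
    ∃ H : Finset σ → MvPolynomial σ R,
      (∀ (s : Finset σ) (α : σ →₀ ℕ), coeff α (H s) ≠ 0 → ∃ j, j ∉ s ∧ coeff α (G (insert j s)) ≠ 0) ∧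
      ∀ (s : Finset σ), s.card = a → ∀ α : σ →₀ ℕ, (∃ j, ¬ p ∣ α j) → coeff α (kos H s) = coeff α (G s) := by
  classical
  let h : (σ →₀ ℕ) → Finset σ → R := fun α s =>
    if hex : ∃ j, ¬ p ∣ α j then
      if hex.choose ∈ s then 0 else
        sgn R hex.choose (insert hex.choose s) * Ring.inverse (α hex.choose : R) * coeff α (G (insert hex.choose s))
    else 0
  have hh : ∀ α s, h α s ≠ 0 → ∃ j, j ∉ s ∧ coeff α (G (insert j s)) ≠ 0 := by
    intro α s hne
    simp only [h] at hne
    split_ifs at hne with hex hj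
    · exact (hne rfl).elim
    · exact ⟨hex.choose, hj, right_ne_zero_of_mul hne⟩
    · exact (hne rfl).elim
  let T : Finset (σ →₀ ℕ) := Finset.univ.biUnion fun s : Finset σ => (G s).support
  let H : Finset σ → MvPolynomial σ R := fun s => ∑ α ∈ T, monomial α (h α s)
  have hH : ∀ s α, coeff α (H s) = h α s := by
    intro s α
    simp only [H, coeff_sum, coeff_monomial, Finset.sum_ite_eq']
    split_ifs with hT
    · rfl
    · by_contra hne
      obtain ⟨j, -, hj⟩ := hh α s (Ne.symm hne)
      exact hT (Finset.mem_biUnion.2 ⟨_, Finset.mem_univ _, mem_support_iff.2 hj⟩)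
  refine ⟨H, fun s α hne => hh α s (hH s α ▸ hne), fun s hs α hex => ?_⟩
  have hu : IsUnit (α hex.choose : R) := by
    rw [← map_natCast (ZMod.castHom (dvd_refl p) R : ZMod p →+* R)]
    exact IsUnit.map _ (isUnit_iff_ne_zero.2 fun h0 => hex.choose_spec ((ZMod.natCast_eq_zero_iff _ _).1 h0))
  set j := hex.choose with hjdef
  have hval : ∀ t, coeff α (H t) =
      if j ∈ t then 0 else sgn R j (insert j t) * Ring.inverse (α j : R) * coeff α (G (insert j t)) := fun t => by
    rw [hH]; exact dif_pos hex
  rw [coeff_kos]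
  by_cases hj : j ∈ s
  · rw [Finset.sum_eq_single j]
    · rw [hval, if_neg (Finset.notMem_erase j s), Finset.insert_erase hj]
      linear_combination ((α j : R) * Ring.inverse (α j : R) * coeff α (G s)) * sgn_mul_self (R := R) j s +
        coeff α (G s) * Ring.mul_inverse_cancel _ hu
    · intro i _ hij
      rw [hval, if_pos (Finset.mem_erase.2 ⟨Ne.symm hij, hj⟩), mul_zero, mul_zero]
    · exact fun h' => (h' hj).elim
  · have h0 := congrArg (coeff α) (hG (insert j s) (by rw [Finset.card_insert_of_notMem hj, hs]))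
    rw [coeff_kos, coeff_zero, Finset.sum_insert hj, Finset.erase_insert hj] at h0
    have hterm : ∀ i ∈ s, sgn R i s * ((α i : R) * coeff α (H (s.erase i))) =
        -(sgn R j (insert j s) * Ring.inverse (α j : R)) *
          (sgn R i (insert j s) * ((α i : R) * coeff α (G ((insert j s).erase i)))) := by
      intro i hi
      have hij : j ≠ i := fun h' => hj (h' ▸ hi)
      rw [hval, if_neg (fun h' => hj (Finset.mem_of_mem_erase h')), ← Finset.erase_insert_of_ne hij]
      linear_combination (Ring.inverse (α j : R) * (α i : R) * coeff α (G ((insert j s).erase i))) *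
        sgn_swap (R := R) hi hj
    rw [Finset.sum_congr rfl hterm, ← Finset.mul_sum]
    linear_combination (-(sgn R j (insert j s) * Ring.inverse (α j : R))) * h0 +
      ((α j : R) * Ring.inverse (α j : R) * coeff α (G s)) * sgn_mul_self (R := R) j (insert j s) +
      coeff α (G s) * Ring.mul_inverse_cancel _ hu

end LogCartierLib
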