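import Mathlib
import Groth.Prelude.Def_LogDiff
import Groth.Prelude.Def_DeRham
import Groth.Agent.LogCartierLib.Comb

/-!
# The logarithmic Cartier description of closed forms on affine space
-/

set_option autoImplicit false
set_option maxHeartbeats 1000000
universe u

open MvPolynomial exteriorPower

namespace LogCartierLib

noncomputable section

variable {R : Type u} [CommRing R] {n : ℕ}

/-- The exponent of the coordinates from `r` on that occur in `s`. -/
def chi (r : ℕ) (s : Finset (Fin n)) : Fin n →₀ ℕ :=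
  Finsupp.equivFunOnFinite.symm fun i => if i ∈ s ∧ r ≤ (i : ℕ) then 1 else 0

theorem chi_apply (r : ℕ) (s : Finset (Fin n)) (i : Fin n) : chi r s i = if i ∈ s ∧ r ≤ (i : ℕ) then 1 else 0 := rfl

theorem chi_insert (r : ℕ) {s : Finset (Fin n)} {i : Fin n} (hi : i ∉ s) :
    chi r (insert i s) = chi r s + Finsupp.single i (if r ≤ (i : ℕ) then 1 else 0) := by
  ext j
  rw [Finsupp.add_apply, chi_apply, chi_apply]
  by_cases h : j = i
  · subst h; simp [hi]
  · simp [h, Finsupp.single_eq_of_ne h]

theorem chi_le_of (r : ℕ) (s : Finset (Fin n)) (α : Fin n →₀ ℕ) (h : ∀ i ∈ s, r ≤ (i : ℕ) → 1 ≤ α i) : chi r s ≤ α := by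
  intro i
  rw [chi_apply]
  split_ifs with hi
  · exact h i hi.1 hi.2
  · exact Nat.zero_le _

theorem regular_mono (α : Fin n →₀ ℕ) (f : MvPolynomial (Fin n) R) (h : monomial α (1 : R) * f = 0) : f = 0 := by
  ext β
  have := congrArg (coeff (α + β)) h
  rwa [coeff_monomial_mul, one_mul, coeff_zero] at this

theorem exists_eq_mono_mul (α : Fin n →₀ ℕ) (f : MvPolynomial (Fin n) R) (h : ∀ β, coeff β f ≠ 0 → α ≤ β) :
    monomial α (1 : R) * f.divMonomial α = f := by
  ext β
  rw [coeff_monomial_mul']
  split_ifs with hle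
  · rw [one_mul, coeff_divMonomial, add_tsub_cancel_of_le hle]
  · by_contra hne
    exact hle (h β (Ne.symm hne))

theorem expand_mono (p : ℕ) (α : Fin n →₀ ℕ) : expand p (monomial α (1 : R)) = monomial (p • α) 1 :=
  expand_monomial _ _ _

theorem exists_expand (p : ℕ) (hp : p ≠ 0) (f : MvPolynomial (Fin n) R) (h : ∀ α, coeff α f ≠ 0 → ∀ i, p ∣ α i) :
    ∃ q, expand p q = f ∧ ∀ β, coeff β q ≠ 0 → coeff (p • β) f ≠ 0 := by
  classical
  let dv : (Fin n →₀ ℕ) → (Fin n →₀ ℕ) := fun m => m.mapRange (· / p) (Nat.zero_div p)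
  refine ⟨∑ m ∈ f.support, monomial (dv m) (coeff m f), ?_, fun β hβ => ?_⟩
  · conv_rhs => rw [f.as_sum]
    rw [map_sum]
    refine Finset.sum_congr rfl fun m hm => ?_
    rw [expand_monomial, show p • dv m = m from
      Finsupp.ext fun i => by simp [dv, Nat.mul_div_cancel' (h m (mem_support_iff.1 hm) i)]]
  · obtain ⟨m, hm, hne⟩ := Finset.exists_ne_zero_of_sum_ne_zero (by rwa [coeff_sum] at hβ)
    rw [coeff_monomial] at hne
    split_ifs at hne with he
    · rw [← he, show p • dv m = m from
        Finsupp.ext fun i => by simp [dv, Nat.mul_div_cancel' (h m (mem_support_iff.1 hm) i)]]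
      exact hne
    · exact (hne rfl).elim

variable {L : Type u} [AddCommGroup L] [Module (MvPolynomial (Fin n) R) L] [Module R L]
  [IsScalarTower R (MvPolynomial (Fin n) R) L] {r : ℕ} (hr : r ≤ n)
  (ι : (Ω[MvPolynomial (Fin n) R⁄R]) →ₗ[MvPolynomial (Fin n) R] L) (dl : Fin r → L)
  (hL : LogDiff.IsLog (KaehlerDifferential.D R (MvPolynomial (Fin n) R))
    (fun i : Fin r => (X (Fin.castLE hr i) : MvPolynomial (Fin n) R)) ι dl)

/-- The natural generators of the log forms. -/
def gen (i : Fin n) : L := if h : (i : ℕ) < r then dl ⟨i, h⟩ else ι (KaehlerDifferential.D R _ (X i))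

/-- The multiplier of `D Xᵢ` over the generator. -/
def mult (R : Type u) [CommRing R] (r : ℕ) (i : Fin n) : MvPolynomial (Fin n) R := if (i : ℕ) < r then X i else 1

include hL in
theorem iota_D_X (i : Fin n) : ι (KaehlerDifferential.D R _ (X i)) = mult R r i • gen ι dl i := by
  rw [mult, gen]
  split_ifs with h
  · exact (hL.1 ⟨i, h⟩).symm
  · rw [one_smul]

include hL in
theorem iota_D (f : MvPolynomial (Fin n) R) :
    ι (KaehlerDifferential.D R _ f) = ∑ i, (pderiv i f * mult R r i) • gen ι dl i := by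
  have h : KaehlerDifferential.D R _ f = ∑ i, pderiv i f • KaehlerDifferential.D R _ (X i) := by
    conv_lhs => rw [← (KaehlerDifferential.mvPolynomialBasis R (Fin n)).sum_repr (KaehlerDifferential.D R _ f)]
    refine Finset.sum_congr rfl fun i _ => ?_
    rw [KaehlerDifferential.mvPolynomialBasis_repr_apply]
    congr 1
    apply (KaehlerDifferential.mvPolynomialBasis R (Fin n)).repr.injective
    rw [Module.Basis.repr_self, KaehlerDifferential.mvPolynomialBasis_repr_D_X]
  rw [h, map_sum]
  refine Finset.sum_congr rfl fun i _ => ?_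
  rw [map_smul, iota_D_X hr ι dl hL, smul_smul]

include hL in
theorem span_gen : Submodule.span (MvPolynomial (Fin n) R) (Set.range (gen ι dl)) = ⊤ := by
  rw [eq_top_iff, ← hL.2.1, Submodule.span_le]
  rintro x (⟨ω, rfl⟩ | ⟨i, rfl⟩)
  · conv => rw [← (KaehlerDifferential.mvPolynomialBasis R (Fin n)).sum_repr ω]
    rw [map_sum]
    refine Submodule.sum_mem _ fun i _ => ?_
    rw [map_smul]
    refine Submodule.smul_mem _ _ ?_
    have hb : KaehlerDifferential.mvPolynomialBasis R (Fin n) i = KaehlerDifferential.D R _ (X i) := by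
      apply (KaehlerDifferential.mvPolynomialBasis R (Fin n)).repr.injective
      rw [Module.Basis.repr_self, KaehlerDifferential.mvPolynomialBasis_repr_D_X]
    rw [hb, iota_D_X hr ι dl hL]
    exact Submodule.smul_mem _ _ (Submodule.subset_span ⟨i, rfl⟩)
  · refine Submodule.subset_span ⟨Fin.castLE hr i, ?_⟩
    rw [gen, dif_pos (show ((Fin.castLE hr i : Fin n) : ℕ) < r from i.2)]
    rfl

include hL in
theorem linearIndependent_gen : LinearIndependent (MvPolynomial (Fin n) R) (gen ι dl) := by
  classical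
  rw [Fintype.linearIndependent_iff]
  intro f hf
  let P : MvPolynomial (Fin n) R := ∏ j : Fin r, X (Fin.castLE hr j)
  let Q : Fin n → MvPolynomial (Fin n) R := fun i =>
    if h : (i : ℕ) < r then ∏ j ∈ Finset.univ.erase (⟨i, h⟩ : Fin r), X (Fin.castLE hr j) else P
  have hQ : ∀ i, Q i * mult R r i = P := by
    intro i
    simp only [Q, mult]
    split_ifs with h
    · exact Finset.prod_erase_mul _ (fun j : Fin r => X (Fin.castLE hr j)) (Finset.mem_univ (⟨i, h⟩ : Fin r))
    · rw [mul_one]
  have hreg : ∀ g : MvPolynomial (Fin n) R, P * g = 0 → g = 0 := by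
    suffices ∃ α, P = monomial α (1 : R) by
      obtain ⟨α, hα⟩ := this
      exact fun g hg => regular_mono α g (hα ▸ hg)
    exact ⟨∑ j : Fin r, Finsupp.single (Fin.castLE hr j) 1, by rw [monomial_sum_one]; rfl⟩
  have h0 : ι (∑ i, (f i * Q i) • KaehlerDifferential.D R _ (X i)) = 0 := by
    have := congrArg (P • ·) hf
    rw [Finset.smul_sum, smul_zero] at this
    rw [map_sum]
    refine Eq.trans (Finset.sum_congr rfl fun i _ => ?_) this
    rw [map_smul, iota_D_X hr ι dl hL, smul_smul, smul_smul, mul_assoc, hQ, mul_comm]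
  obtain ⟨m, hm⟩ := (hL.2.2.2 _).1 h0
  intro i
  have hP : ∀ (k : ℕ) (g : MvPolynomial (Fin n) R), P ^ k * g = 0 → g = 0 := by
    intro k
    induction k with
    | zero => intro g hg; simpa using hg
    | succ k ih => intro g hg; exact hreg g (ih _ (by rw [← mul_assoc, ← pow_succ]; exact hg))
  have h1 : P ^ m * (f i * Q i) = 0 := by
    rw [Finset.smul_sum] at hm
    have := congrArg (fun z => (KaehlerDifferential.mvPolynomialBasis R (Fin n)).repr z i) hm
    simpa [Finsupp.single_apply, P] using this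
  have h2 : f i * Q i = 0 := hP m _ h1
  refine hreg _ ?_
  rw [← hQ i, mul_comm, ← mul_assoc, h2, zero_mul]

/-- The basis of the log forms. -/
def genBasis : Module.Basis (Fin n) (MvPolynomial (Fin n) R) L :=
  Module.Basis.mk (linearIndependent_gen hr ι dl hL) (span_gen hr ι dl hL).ge

/-- The normalised coordinates of a form. -/
def coord (a : ℕ) (ω : ↥(⋀[MvPolynomial (Fin n) R]^a L)) (s : Finset (Fin n)) : MvPolynomial (Fin n) R :=
  if hs : s.card = a then
    monomial (chi r s) (1 : R) * ((genBasis hr ι dl hL).exteriorPower a).repr ω ⟨s, hs⟩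
  else 0

theorem coord_injective (a : ℕ) (ω : ↥(⋀[MvPolynomial (Fin n) R]^a L))
    (h : ∀ s, coord hr ι dl hL a ω s = 0) : ω = 0 := by
  apply ((genBasis hr ι dl hL).exteriorPower a).repr.injective
  rw [map_zero]
  ext ⟨s, (hs : s.card = a)⟩ : 1
  have := h s
  rw [coord, dif_pos hs] at this
  exact regular_mono _ _ this

theorem coord_surjective (a : ℕ) (G : Finset (Fin n) → MvPolynomial (Fin n) R)
    (hG : ∀ s α, s.card = a → coeff α (G s) ≠ 0 → chi r s ≤ α) :
    ∃ ω, ∀ s : Finset (Fin n), s.card = a → coord hr ι dl hL a ω s = G s := by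
  refine ⟨((genBasis hr ι dl hL).exteriorPower a).repr.symm
    (Finsupp.equivFunOnFinite.symm fun s => (G s.1).divMonomial (chi r s.1)), fun s hs => ?_⟩
  rw [coord, dif_pos hs, LinearEquiv.apply_symm_apply]
  exact exists_eq_mono_mul _ _ (fun β => hG s β hs)

theorem le_of_coeff_coord (a : ℕ) (ω : ↥(⋀[MvPolynomial (Fin n) R]^a L)) (s : Finset (Fin n)) (α : Fin n →₀ ℕ)
    (h : coeff α (coord hr ι dl hL a ω s) ≠ 0) : chi r s ≤ α := by
  unfold coord at h
  split_ifs at h
  · rw [coeff_monomial_mul'] at h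
    by_contra hle
    rw [if_neg hle] at h
    exact h rfl
  · simp at h

theorem coord_add (a : ℕ) (x y : ↥(⋀[MvPolynomial (Fin n) R]^a L)) (s : Finset (Fin n)) :
    coord hr ι dl hL a (x + y) s = coord hr ι dl hL a x s + coord hr ι dl hL a y s := by
  unfold coord
  split_ifs
  · rw [map_add, Finsupp.add_apply, mul_add]
  · rw [add_zero]

theorem coord_zero (a : ℕ) (s : Finset (Fin n)) : coord hr ι dl hL a 0 s = 0 := by
  unfold coord
  split_ifs <;> simp

theorem coord_sub (a : ℕ) (x y : ↥(⋀[MvPolynomial (Fin n) R]^a L)) (s : Finset (Fin n)) :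
    coord hr ι dl hL a (x - y) s = coord hr ι dl hL a x s - coord hr ι dl hL a y s :=
  eq_sub_of_add_eq (by rw [← coord_add, sub_add_cancel])

theorem coord_smul_basis (a : ℕ) (c : MvPolynomial (Fin n) R) (s : Finset (Fin n)) (hs : s.card = a) (t : Finset (Fin n)) :
    coord hr ι dl hL a (c • ιMulti _ a (gen ι dl ∘ s.orderEmbOfFin hs)) t =
      if t = s then monomial (chi r s) (1 : R) * c else 0 := by
  have hE : ιMulti (MvPolynomial (Fin n) R) a (gen ι dl ∘ s.orderEmbOfFin hs) =
      (genBasis hr ι dl hL).exteriorPower a ⟨s, hs⟩ := by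
    rw [exteriorPower.basis_apply, genBasis, Module.Basis.coe_mk]
    rfl
  rw [coord, hE, map_smul, Module.Basis.repr_self]
  split_ifs with ht hts hts
  · subst hts; simp
  · rw [Finsupp.smul_apply, Finsupp.single_apply, if_neg (fun h' => hts (congrArg Subtype.val h').symm)]
    simp
  · exact absurd (hts ▸ hs) ht
  · rfl

theorem coord_sum (a : ℕ) {κ : Type*} (S : Finset κ) (x : κ → ↥(⋀[MvPolynomial (Fin n) R]^a L)) (s : Finset (Fin n)) :
    coord hr ι dl hL a (∑ k ∈ S, x k) s = ∑ k ∈ S, coord hr ι dl hL a (x k) s := by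
  classical
  induction S using Finset.induction_on with
  | empty => simp [coord_zero]
  | insert k S hk ih => rw [Finset.sum_insert hk, Finset.sum_insert hk, coord_add, ih]

theorem iMulti_cons_gen {a : ℕ} (s : Finset (Fin n)) (hs : s.card = a) {i : Fin n} (hi : i ∉ s) :
    ιMulti (MvPolynomial (Fin n) R) (a + 1) (Fin.cons (gen ι dl i) (gen ι dl ∘ s.orderEmbOfFin hs)) =
      (sgn (MvPolynomial (Fin n) R) i (insert i s)) •
        ιMulti _ (a + 1) (gen ι dl ∘ (insert i s).orderEmbOfFin (k := a + 1) (by rw [Finset.card_insert_of_notMem hi, hs])) := by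
  classical
  have hs' : (insert i s).card = a + 1 := by rw [Finset.card_insert_of_notMem hi, hs]
  set e := (insert i s).orderEmbOfFin hs'
  obtain ⟨k, hk⟩ : i ∈ Set.range e := by rw [Finset.range_orderEmbOfFin]; exact Finset.mem_insert_self i s
  have he : ⇑(s.orderEmbOfFin hs) = e ∘ k.succAbove := by
    refine (Finset.orderEmbOfFin_unique hs (fun x => ?_) (e.strictMono.comp (Fin.strictMono_succAbove k))).symm
    rcases Finset.mem_insert.1 (Finset.orderEmbOfFin_mem (insert i s) hs' (k.succAbove x)) with h | h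
    · exact absurd (e.injective (h.trans hk.symm)) (Fin.succAbove_ne k x)
    · exact h
  have hcard : ((insert i s).filter (· < i)).card = k := by
    have : (insert i s).filter (· < i) = (Finset.Iio k).map e.toEmbedding := by
      ext x
      simp only [Finset.mem_filter, Finset.mem_map, Finset.mem_Iio, RelEmbedding.coe_toEmbedding]
      constructor
      · rintro ⟨hx, hlt⟩
        obtain ⟨l, rfl⟩ : x ∈ Set.range e := by rw [Finset.range_orderEmbOfFin]; exact hx
        exact ⟨l, e.lt_iff_lt.1 (hk ▸ hlt), rfl⟩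
      · rintro ⟨l, hl, rfl⟩
        exact ⟨Finset.orderEmbOfFin_mem _ _ _, hk ▸ e.lt_iff_lt.2 hl⟩
    rw [this, Finset.card_map, Fin.card_Iio]
  have hins : gen ι dl ∘ e = k.insertNth (gen ι dl i) (gen ι dl ∘ s.orderEmbOfFin hs) := by
    rw [eq_comm, Fin.insertNth_eq_iff]
    refine ⟨by rw [Function.comp_apply, hk], ?_⟩
    rw [he]
    rfl
  rw [hins, AlternatingMap.map_insertNth, sgn, hcard, ← Int.cast_smul_eq_zsmul (MvPolynomial (Fin n) R), smul_smul, Int.cast_pow, Int.cast_neg, Int.cast_one, ← mul_pow, neg_mul_neg, one_mul, one_pow, one_smul]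
  rfl

variable (d : ∀ q : ℕ, ↥(⋀[MvPolynomial (Fin n) R]^q L) →ₗ[R] ↥(⋀[MvPolynomial (Fin n) R]^(q + 1) L))
  (hlog : LogDiff.IsLogRule (KaehlerDifferential.D R (MvPolynomial (Fin n) R)) ι dl d)

include hlog in
theorem coord_d (a : ℕ) (ω : ↥(⋀[MvPolynomial (Fin n) R]^a L)) (t : Finset (Fin n)) (ht : t.card = a + 1) :
    coord hr ι dl hL (a + 1) (d a ω) t = kos (coord hr ι dl hL a ω) t := by
  classical
  have hadd : ∀ x y : ↥(⋀[MvPolynomial (Fin n) R]^a L),
      kos (coord hr ι dl hL a (x + y)) t = kos (coord hr ι dl hL a x) t + kos (coord hr ι dl hL a y) t := by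
    intro x y
    simp only [kos, coord_add, map_add, mul_add, Finset.sum_add_distrib]
  rw [← ((genBasis hr ι dl hL).exteriorPower a).sum_repr ω]
  generalize hc : ((genBasis hr ι dl hL).exteriorPower a).repr ω = c
  clear hc
  induction (Finset.univ : Finset (Set.powersetCard (Fin n) a)) using Finset.induction_on with
  | empty => simp [coord_zero, kos]
  | insert s S hsS ih =>
    rw [Finset.sum_insert hsS, map_add, coord_add, hadd, ih]
    congr 1
    obtain ⟨s, (hs : s.card = a)⟩ := s
    have hE : (genBasis hr ι dl hL).exteriorPower a ⟨s, hs⟩ = ιMulti _ a (gen ι dl ∘ s.orderEmbOfFin hs) := by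
      rw [exteriorPower.basis_apply, genBasis, Module.Basis.coe_mk]
      rfl
    rw [hE, hlog a _ _ (fun k => by
      simp only [Function.comp_apply, gen]
      split_ifs
      · exact Or.inr ⟨_, rfl⟩
      · exact Or.inl ⟨_, rfl⟩)]
    generalize c ⟨s, hs⟩ = f
    have hlin : ιMulti (MvPolynomial (Fin n) R) (a + 1)
        (Fin.cons (ι (KaehlerDifferential.D R _ f)) (gen ι dl ∘ s.orderEmbOfFin hs)) =
        ∑ i, (pderiv i f * mult R r i) • ιMulti _ (a + 1) (Fin.cons (gen ι dl i) (gen ι dl ∘ s.orderEmbOfFin hs)) := by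
      let Ev : L →ₗ[MvPolynomial (Fin n) R] ↥(⋀[MvPolynomial (Fin n) R]^(a + 1) L) :=
        { toFun := fun z => (ιMulti (MvPolynomial (Fin n) R) (a + 1)).curryLeft z (gen ι dl ∘ s.orderEmbOfFin hs)
          map_add' := fun x y => by rw [map_add, AlternatingMap.add_apply]
          map_smul' := fun c x => by rw [map_smul, AlternatingMap.smul_apply]; rfl }
      have h := congrArg Ev (iota_D hr ι dl hL f)
      simp only [map_sum, map_smul] at h
      exact h
    rw [hlin, coord_sum]
    have hrhs : kos (coord hr ι dl hL a (f • ιMulti _ a (gen ι dl ∘ s.orderEmbOfFin hs))) t =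
        ∑ i ∈ t, if t.erase i = s then C (sgn R i t) * (X i * pderiv i (monomial (chi r s) (1 : R) * f)) else 0 := by
      rw [kos]
      refine Finset.sum_congr rfl fun i _ => ?_
      rw [coord_smul_basis]
      split_ifs <;> simp
    rw [hrhs]
    rw [← Finset.sum_subset (Finset.subset_univ t) (fun i _ hit => ?_)]
    · refine Finset.sum_congr rfl fun i hit => ?_
      by_cases his : i ∈ s
      · obtain ⟨l, hl⟩ : i ∈ Set.range (s.orderEmbOfFin hs) := by rw [Finset.range_orderEmbOfFin]; exact his
        rw [(ιMulti (MvPolynomial (Fin n) R) (a + 1)).map_eq_zero_of_eq (v := Fin.cons (gen ι dl i) (gen ι dl ∘ s.orderEmbOfFin hs))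
          (i := 0) (j := l.succ) (by rw [Fin.cons_zero, Fin.cons_succ, Function.comp_apply, hl]) (Fin.succ_ne_zero l).symm,
          smul_zero, coord_zero, if_neg (fun h' : t.erase i = s => Finset.notMem_erase i t (h'.symm ▸ his))]
      · rw [iMulti_cons_gen ι dl s hs his, smul_smul, coord_smul_basis]
        by_cases hts : t = insert i s
        · subst hts
          rw [if_pos rfl, if_pos (Finset.erase_insert his), chi_insert r his, pderiv_mul]
          have hχ : pderiv i (monomial (chi r s) (1 : R)) = 0 := by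
            rw [pderiv_monomial, chi_apply, if_neg (fun h' => his h'.1)]
            simp
          rw [hχ, zero_mul, zero_add, show monomial (chi r s + Finsupp.single i (if r ≤ (i : ℕ) then 1 else 0)) (1 : R) =
            monomial (chi r s) 1 * (X i) ^ (if r ≤ (i : ℕ) then 1 else 0) from monomial_add_single]
          rw [show sgn (MvPolynomial (Fin n) R) i (insert i s) = C (sgn R i (insert i s)) by simp [sgn], mult]
          by_cases hir : (i : ℕ) < r
          · rw [if_pos hir, if_neg hir.not_ge]; ring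
          · rw [if_neg hir, if_pos (not_lt.1 hir)]; ring
        · rw [if_neg hts, if_neg (fun h' => hts (by rw [← h', Finset.insert_erase hit]))]
    · by_cases his : i ∈ s
      · obtain ⟨l, hl⟩ : i ∈ Set.range (s.orderEmbOfFin hs) := by rw [Finset.range_orderEmbOfFin]; exact his
        rw [(ιMulti (MvPolynomial (Fin n) R) (a + 1)).map_eq_zero_of_eq (v := Fin.cons (gen ι dl i) (gen ι dl ∘ s.orderEmbOfFin hs))
          (i := 0) (j := l.succ) (by rw [Fin.cons_zero, Fin.cons_succ, Function.comp_apply, hl]) (Fin.succ_ne_zero l).symm,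
          smul_zero, coord_zero]
      · rw [iMulti_cons_gen ι dl s hs his, smul_smul, coord_smul_basis,
          if_neg (fun h' : t = insert i s => hit (h'.symm ▸ Finset.mem_insert_self i s))]

variable (p : ℕ) [Fact p.Prime] (w : Fin n → L) (hw : ∀ i : Fin r, w (Fin.castLE hr i) = dl i)
  (hw' : ∀ ν : Fin n, r ≤ (ν : ℕ) → w ν = ι (((X ν : MvPolynomial (Fin n) R) ^ (p - 1)) • KaehlerDifferential.D R _ (X ν)))

include hw hw' in
theorem coord_expand_smul (a : ℕ) (g : MvPolynomial (Fin n) R) (s : Finset (Fin n)) (hs : s.card = a) (t : Finset (Fin n)) :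
    coord hr ι dl hL a (expand p g • ιMulti _ a (fun j => w (s.orderEmbOfFin hs j))) t =
      if t = s then expand p (monomial (chi r s) (1 : R) * g) else 0 := by
  classical
  have hwi : ∀ i, w i = (if r ≤ (i : ℕ) then (X i : MvPolynomial (Fin n) R) ^ (p - 1) else 1) • gen ι dl i := by
    intro i
    by_cases h : r ≤ (i : ℕ)
    · rw [if_pos h, hw' i h, map_smul, gen, dif_neg (not_lt.2 h)]
    · rw [if_neg h, one_smul, gen, dif_pos (not_le.1 h)]
      exact (congrArg w (Fin.ext rfl)).trans (hw ⟨i, not_le.1 h⟩)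
  simp only [hwi]
  rw [show (fun j => (if r ≤ ((s.orderEmbOfFin hs j : Fin n) : ℕ) then (X (s.orderEmbOfFin hs j) : MvPolynomial (Fin n) R) ^ (p - 1) else 1) •
      gen ι dl (s.orderEmbOfFin hs j)) = fun j => (if r ≤ ((s.orderEmbOfFin hs j : Fin n) : ℕ) then (X (s.orderEmbOfFin hs j) : MvPolynomial (Fin n) R) ^ (p - 1) else 1) •
      (gen ι dl ∘ s.orderEmbOfFin hs) j from rfl]
  erw [(ιMulti (MvPolynomial (Fin n) R) a).toMultilinearMap.map_smul_univ]
  rw [smul_smul]
  erw [coord_smul_basis]
  refine if_congr Iff.rfl ?_ rfl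
  have hprod : ∏ j, (if r ≤ ((s.orderEmbOfFin hs j : Fin n) : ℕ) then (X (s.orderEmbOfFin hs j) : MvPolynomial (Fin n) R) ^ (p - 1) else 1) =
      monomial ((p - 1) • chi r s) 1 := by
    rw [show monomial ((p - 1) • chi r s) (1 : R) = ∏ i, (X i : MvPolynomial (Fin n) R) ^ (((p - 1) • chi r s) i) by
      rw [monomial_eq, C_1, one_mul, Finsupp.prod_fintype _ _ (fun i => pow_zero _)]]
    have himg : (s : Finset (Fin n)) = Finset.univ.map (s.orderEmbOfFin hs).toEmbedding := (Finset.map_orderEmbOfFin_univ s hs).symm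
    rw [← Finset.prod_subset (Finset.subset_univ s) (fun i _ hi => by simp [chi_apply, hi])]
    refine Eq.trans ?_ (Finset.prod_congr himg (fun _ _ => rfl)).symm
    rw [Finset.prod_map]
    refine Finset.prod_congr rfl fun j _ => ?_
    simp only [RelEmbedding.coe_toEmbedding, Finsupp.smul_apply, chi_apply, Finset.orderEmbOfFin_mem, true_and, smul_eq_mul]
    split_ifs <;> simp
  rw [hprod, map_mul, expand_mono, mul_left_comm, monomial_mul, one_mul, mul_comm]
  congr 2
  rw [show p = 1 + (p - 1) by have := (Fact.out : p.Prime).pos; omega, add_smul, one_smul]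
  simp

include hL hlog hw hw' in
theorem main [CharP R p] (hd : ∀ q, d (q + 1) ∘ₗ d q = 0) (a : ℕ)
    (e : Finset (Fin n) → ↥(⋀[MvPolynomial (Fin n) R]^a L))
    (he : ∀ (s : Finset (Fin n)) (hs : s.card = a),
      e s = ιMulti (MvPolynomial (Fin n) R) a (fun j => w (s.orderEmbOfFin hs j))) :
    (∀ ω, ω ∈ DeRham.cocycles d a ↔
      ∃ (g : Finset (Fin n) → MvPolynomial (Fin n) R) (η : ↥(⋀[MvPolynomial (Fin n) R]^a L)),
        η ∈ DeRham.coboundaries d a ∧
          ω = η + ∑ s ∈ Finset.powersetCard a Finset.univ, expand p (g s) • e s) ∧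
    (∀ g : Finset (Fin n) → MvPolynomial (Fin n) R,
      (∑ s ∈ Finset.powersetCard a Finset.univ, expand p (g s) • e s) ∈ DeRham.coboundaries d a →
        ∀ s ∈ Finset.powersetCard a (Finset.univ : Finset (Fin n)), g s = 0) := by
  classical
  have hp0 : p ≠ 0 := (Fact.out : p.Prime).ne_zero
  have hS : ∀ (g : Finset (Fin n) → MvPolynomial (Fin n) R) (t : Finset (Fin n)), t.card = a →
      coord hr ι dl hL a (∑ s ∈ Finset.powersetCard a Finset.univ, expand p (g s) • e s) t =
        expand p (monomial (chi r t) (1 : R) * g t) := by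
    intro g t ht
    rw [coord_sum, Finset.sum_eq_single t]
    · rw [he t ht, coord_expand_smul hr ι dl hL p w hw hw' a _ t ht, if_pos rfl]
    · intro s hs hne
      rw [he s (Finset.mem_powersetCard.1 hs).2, coord_expand_smul hr ι dl hL p w hw hw' a _ s _, if_neg (Ne.symm hne)]
    · exact fun h => (h (Finset.mem_powersetCard.2 ⟨Finset.subset_univ t, ht⟩)).elim
  have hcobd : ∀ η ∈ DeRham.coboundaries d a, ∀ t : Finset (Fin n), t.card = a → ∀ α : Fin n →₀ ℕ, (∀ i, p ∣ α i) →
      coeff α (coord hr ι dl hL a η t) = 0 := by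
    intro η hη t ht α hα
    cases a with
    | zero => rw [(Submodule.mem_bot R).1 hη, coord_zero, coeff_zero]
    | succ b =>
      obtain ⟨θ, rfl⟩ := hη
      rw [coord_d hr ι dl hL d hlog b θ t ht, coeff_kos_eq_zero p _ _ hα]
  refine ⟨fun ω => ⟨fun hω => ?_, ?_⟩, fun g hg t ht => ?_⟩
  · obtain ⟨H, hdiv, hH⟩ := exists_homotopy p (coord hr ι dl hL a ω) a fun t ht => by
      rw [← coord_d hr ι dl hL d hlog a ω t ht, show d a ω = 0 from hω, coord_zero]
    obtain ⟨η, hη, hη'⟩ : ∃ η ∈ DeRham.coboundaries d a, ∀ t : Finset (Fin n), t.card = a →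
        coord hr ι dl hL a η t = kos H t := by
      cases a with
      | zero =>
        exact ⟨0, Submodule.zero_mem _, fun t ht => by rw [coord_zero, Finset.card_eq_zero.1 ht]; simp [kos]⟩
      | succ b =>
        obtain ⟨θ, hθ⟩ := coord_surjective hr ι dl hL b H fun s α _ hne => by
          obtain ⟨j, -, hj⟩ := hdiv s α hne
          refine chi_le_of r s α fun i hi hri => ?_
          have := le_of_coeff_coord hr ι dl hL _ _ _ α hj i
          rwa [chi_apply, if_pos ⟨Finset.mem_insert_of_mem hi, hri⟩] at this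
        refine ⟨d b θ, ⟨θ, rfl⟩, fun t ht => ?_⟩
        rw [coord_d hr ι dl hL d hlog b θ t ht]
        refine Finset.sum_congr rfl fun i hi => ?_
        rw [hθ _ (by rw [Finset.card_erase_of_mem hi, ht]; rfl)]
    have hdvd : ∀ t : Finset (Fin n), t.card = a → ∀ α, coeff α (coord hr ι dl hL a (ω - η) t) ≠ 0 → ∀ i, p ∣ α i := by
      intro t ht α hne i
      by_contra hi
      exact hne (by rw [coord_sub, coeff_sub, hη' t ht, hH t ht α ⟨i, hi⟩, sub_self])
    have hex : ∀ t : Finset (Fin n), ∃ g, t.card = a →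
        coord hr ι dl hL a (ω - η) t = expand p (monomial (chi r t) (1 : R) * g) := by
      intro t
      by_cases ht : t.card = a
      · obtain ⟨q, hq, hq'⟩ := exists_expand p hp0 _ (hdvd t ht)
        refine ⟨q.divMonomial (chi r t), fun _ => ?_⟩
        rw [exists_eq_mono_mul, hq]
        intro β hβ
        refine chi_le_of r t β fun i hi hri => ?_
        have := le_of_coeff_coord hr ι dl hL _ _ _ _ (hq' β hβ) i
        rw [chi_apply, if_pos ⟨hi, hri⟩, Finsupp.smul_apply, smul_eq_mul] at this
        rcases Nat.eq_zero_or_pos (β i) with h0 | h0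
        · rw [h0, mul_zero] at this; omega
        · exact h0
      · exact ⟨0, fun h => (ht h).elim⟩
    choose g hg using hex
    refine ⟨g, η, hη, ?_⟩
    rw [← sub_eq_zero]
    refine coord_injective hr ι dl hL a _ fun t => ?_
    by_cases ht : t.card = a
    · rw [coord_sub, coord_add, hS g t ht, ← hg t ht, coord_sub]
      ring
    · rw [coord, dif_neg ht]
  · rintro ⟨g, η, hη, rfl⟩
    show d a _ = 0
    have h1 : d a η = 0 := by
      cases a with
      | zero => rw [(Submodule.mem_bot R).1 hη, map_zero]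
      | succ b =>
        obtain ⟨θ, rfl⟩ := hη
        exact LinearMap.congr_fun (hd b) θ
    rw [map_add, h1, zero_add]
    refine coord_injective hr ι dl hL (a + 1) _ fun t => ?_
    by_cases ht : t.card = a + 1
    · rw [coord_d hr ι dl hL d hlog a _ t ht]
      ext α
      rw [coeff_kos, coeff_zero]
      refine Finset.sum_eq_zero fun i hi => ?_
      rw [hS g _ (by rw [Finset.card_erase_of_mem hi, ht]; rfl)]
      by_cases hd' : p ∣ α i
      · rw [(CharP.cast_eq_zero_iff R p (α i)).2 hd', zero_mul, mul_zero]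
      · rw [coeff_expand_of_not_dvd _ hd', mul_zero, mul_zero]
    · rw [coord, dif_neg ht]
  · have ht' := (Finset.mem_powersetCard.1 ht).2
    refine regular_mono (chi r t) _ ?_
    ext β
    have := hcobd _ hg t ht' (p • β) (fun i => ⟨β i, rfl⟩)
    rwa [hS g t ht', coeff_expand_smul _ hp0] at this

end

end LogCartierLib
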